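import Groth.Agent.SerreSplit.Pairing

/-!
Serre's general position argument on the maximal spectrum.
-/

open TopologicalSpace Topology

namespace Groth.Agent.SerreSplit

universe u v

variable {R : Type u} [CommRing R] {M : Type v} [AddCommGroup M] [Module R M]

/-- The points where the `s i` are dependent in `V(x)`. -/
def Bad {r : ℕ} (s : Fin r → M) : Set (MaximalSpectrum R) := {x | ¬ Indep x.asIdeal s}

lemma isClosed_bad {r : ℕ} (s : Fin r → M) : IsClosed (Bad (R := R) s) := by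
  constructor
  have h : (Bad (R := R) s)ᶜ = ⋃ φ : Fin r → M →ₗ[R] R,
      {x : MaximalSpectrum R | (Matrix.of fun i j => φ j (s i)).det ∉ x.asIdeal} := by
    ext x
    simp only [Set.mem_compl_iff, Bad, Set.mem_setOf_eq, not_not, Set.mem_iUnion]
    exact ⟨fun h => h.exists_det, fun ⟨φ, h⟩ => indep_of_det φ h⟩
  rw [h]
  refine isOpen_iUnion fun φ => ?_
  exact (PrimeSpectrum.basicOpen (Matrix.of fun i j => φ j (s i)).det).isOpen.preimage
    continuous_induced_dom

/-- Prescribing values in `R` at finitely many maximal ideals. -/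
lemma exists_forall_sub_mem (P : Finset (MaximalSpectrum R)) (r : MaximalSpectrum R → R) :
    ∃ a : R, ∀ x ∈ P, a - r x ∈ x.asIdeal := by
  obtain ⟨a, ha⟩ := Ideal.exists_forall_sub_mem_ideal
    (I := fun x : P => x.1.asIdeal) (fun x y hxy => Ideal.isCoprime_iff_sup_eq.2
      (x.1.isMaximal.coprime_of_ne y.1.isMaximal
        fun h => hxy (Subtype.ext (MaximalSpectrum.ext h)))) (fun x => r x.1)
  exact ⟨a, fun x hx => ha ⟨x, hx⟩⟩

/-- Prescribing values in `M` at finitely many maximal ideals. -/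
lemma exists_forall_sub_mem_N (P : Finset (MaximalSpectrum R)) (v : MaximalSpectrum R → M) :
    ∃ t : M, ∀ x ∈ P, t - v x ∈ (N x.asIdeal : Submodule R M) := by
  classical
  choose a ha using fun y : MaximalSpectrum R =>
    exists_forall_sub_mem P (fun x => if x = y then (1 : R) else 0)
  refine ⟨∑ y ∈ P, a y • v y, fun x hx => ?_⟩
  have h : (∑ y ∈ P, a y • v y) - v x = ∑ y ∈ P, (a y - if x = y then (1 : R) else 0) • v y := by
    simp [sub_smul, Finset.sum_sub_distrib, ite_smul, hx]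
  rw [h]
  exact Submodule.sum_mem _ fun y _ => smul_mem_N (ha y x hx) _

/-- The dimension condition: no fewer than `D` elements generate `V(x)`. -/
def DimGE (R : Type u) [CommRing R] (M : Type v) [AddCommGroup M] [Module R M] (D : ℕ) : Prop :=
  ∀ (x : MaximalSpectrum R) (m : ℕ) (s : Fin m → M), m < D → U x.asIdeal s ≠ ⊤

lemma exists_component {X : Type*} [TopologicalSpace X] {C : Set (Set X)} (hfin : C.Finite)
    (hcl : ∀ c ∈ C, IsClosed c) {Z : Set X} (hZ : IsIrreducible Z) (hsub : Z ⊆ ⋃₀ C) :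
    ∃ c ∈ C, Z ⊆ c := by
  classical
  obtain ⟨c, hc, hZc⟩ := isIrreducible_iff_sUnion_isClosed.1 hZ hfin.toFinset
    (by simpa using hcl) (by simpa using hsub)
  exact ⟨c, hfin.mem_toFinset.1 hc, hZc⟩

variable [NoetherianSpace (MaximalSpectrum R)]

theorem exists_general_element (k : ℕ) : ∀ {h D : ℕ}, h + k ≤ D → DimGE R M D →
    ∀ (s : Fin h → M) (F : Set (MaximalSpectrum R)), IsClosed F → Bad s ⊆ F →
    ∀ (P : Finset (MaximalSpectrum R)), ↑P ⊆ F → ∀ (v : MaximalSpectrum R → M),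
    ∃ (t : M) (F' : Set (MaximalSpectrum R)), IsClosed F' ∧
      (∀ x ∈ P, t - v x ∈ (N x.asIdeal : Submodule R M)) ∧
      Bad (Fin.snoc s t : Fin (h + 1) → M) ⊆ F ∪ F' ∧
      ∀ Z : IrreducibleCloseds (MaximalSpectrum R), (Z : Set (MaximalSpectrum R)) ⊆ F' →
        (k : ℕ∞) ≤ Order.coheight Z := by
  classical
  induction k with
  | zero =>
    intro h D _ _ s F _ _ P _ v
    obtain ⟨t, ht⟩ := exists_forall_sub_mem_N P v
    exact ⟨t, Set.univ, isClosed_univ, ht, by simp, fun Z _ => by simp⟩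
  | succ k ih =>
    intro h D hD hdim s F hF hs P hPF v
    obtain ⟨t₁, F₁, hF₁, ht₁, hbad₁, hco₁⟩ := ih (show h + k ≤ D by omega) hdim s F hF hs P hPF v
    obtain ⟨C₁, hC₁fin, hC₁cl, hC₁irr, hC₁⟩ :=
      NoetherianSpace.exists_finite_set_isClosed_irreducible hF₁
    -- a point of each component of `F₁` outside `F`
    choose y hyD hyF using fun D : {c : Set (MaximalSpectrum R) // c ∈ C₁ ∧ ¬ c ⊆ F} =>
      Set.not_subset.1 D.2.2
    have : Finite {c : Set (MaximalSpectrum R) // c ∈ C₁ ∧ ¬ c ⊆ F} :=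
      (hC₁fin.subset fun c hc => hc.1).to_subtype
    have := Fintype.ofFinite {c : Set (MaximalSpectrum R) // c ∈ C₁ ∧ ¬ c ⊆ F}
    let Y : Finset (MaximalSpectrum R) := Finset.univ.image y
    have hY : ∀ x ∈ Y, x ∈ F₁ ∧ Indep x.asIdeal s := by
      intro x hx
      obtain ⟨D, -, rfl⟩ := Finset.mem_image.1 hx
      exact ⟨hC₁ ▸ ⟨D.1, D.2.1, hyD D⟩, not_not.1 fun h' => hyF D (hs h')⟩
    -- an element outside the span of `s` at each point
    choose w hw using fun x : MaximalSpectrum R =>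
      SetLike.exists_not_mem_of_ne_top (U x.asIdeal s) (hdim x h s (by omega))
    obtain ⟨t₂, F₂, hF₂, ht₂, hbad₂, hco₂⟩ := ih (show h + 1 + k ≤ D by omega) hdim
      (Fin.snoc s t₁) (F ∪ F₁) (hF.union hF₁) hbad₁ Y
      (fun x hx => Or.inr (hY x hx).1) w
    obtain ⟨C₂, hC₂fin, hC₂cl, hC₂irr, hC₂⟩ :=
      NoetherianSpace.exists_finite_set_isClosed_irreducible hF₂
    choose z hzE hzF using fun E : {c : Set (MaximalSpectrum R) // c ∈ C₂ ∧ ¬ c ⊆ F ∪ F₁} =>
      Set.not_subset.1 E.2.2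
    have : Finite {c : Set (MaximalSpectrum R) // c ∈ C₂ ∧ ¬ c ⊆ F ∪ F₁} :=
      (hC₂fin.subset fun c hc => hc.1).to_subtype
    have := Fintype.ofFinite {c : Set (MaximalSpectrum R) // c ∈ C₂ ∧ ¬ c ⊆ F ∪ F₁}
    let Z₂ : Finset (MaximalSpectrum R) := Finset.univ.image z
    obtain ⟨a, ha⟩ := exists_forall_sub_mem (P ∪ Y ∪ Z₂)
      (fun x => if x ∈ Y ∧ ¬ Indep x.asIdeal (Fin.snoc s t₁ : Fin (h + 1) → M) then 1 else 0)
    set t := t₁ + a • t₂ with ht
    have hzero : ∀ x ∈ P ∪ Y ∪ Z₂,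
        ¬ (x ∈ Y ∧ ¬ Indep x.asIdeal (Fin.snoc s t₁ : Fin (h + 1) → M)) →
        t - t₁ ∈ (N x.asIdeal : Submodule R M) := by
      intro x hx hne
      have := ha x hx
      rw [if_neg hne, sub_zero] at this
      simpa [t] using smul_mem_N this t₂
    have hP : ∀ x ∈ P, t - v x ∈ (N x.asIdeal : Submodule R M) := by
      intro x hx
      have hne : ¬ (x ∈ Y ∧ ¬ Indep x.asIdeal (Fin.snoc s t₁ : Fin (h + 1) → M)) := by
        rintro ⟨hxY, -⟩
        obtain ⟨D, -, rfl⟩ := Finset.mem_image.1 hxY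
        exact hyF D (hPF hx)
      have := (N x.asIdeal).add_mem
        (hzero x (by simp [hx]) hne) (ht₁ x hx)
      simpa using this
    have hYgood : ∀ x ∈ Y, Indep x.asIdeal (Fin.snoc s t : Fin (h + 1) → M) := by
      intro x hx
      by_cases hgood : Indep x.asIdeal (Fin.snoc s t₁ : Fin (h + 1) → M)
      · exact (indep_snoc_congr (hzero x (by simp [hx]) fun h' => h'.2 hgood)).2 hgood
      · have h1 := ha x (by simp [hx])
        rw [if_pos ⟨hx, hgood⟩] at h1
        have ht₁U : t₁ ∈ U x.asIdeal s :=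
          not_not.1 fun hn => hgood (indep_snoc.2 ⟨(hY x hx).2, hn⟩)
        refine (indep_snoc_congr (t' := t₁ + w x) ?_).2 (indep_snoc.2 ⟨(hY x hx).2, fun hU => ?_⟩)
        · have h2 := (N x.asIdeal).add_mem (smul_mem_N h1 t₂) (ht₂ x hx)
          convert h2 using 1
          simp only [t, sub_smul, one_smul]
          abel
        · exact hw x (by simpa using (U x.asIdeal s).sub_mem hU ht₁U)
    have hZgood : ∀ x ∈ Z₂, Indep x.asIdeal (Fin.snoc s t : Fin (h + 1) → M) := by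
      intro x hx
      obtain ⟨E, -, rfl⟩ := Finset.mem_image.1 hx
      have hgood : Indep (z E).asIdeal (Fin.snoc s t₁ : Fin (h + 1) → M) :=
        not_not.1 fun h' => hzF E (hbad₁ h')
      exact (indep_snoc_congr (hzero _ (Finset.mem_union_right _ hx) fun h' => h'.2 hgood)).2 hgood
    have hG : Bad (Fin.snoc s t : Fin (h + 1) → M) ⊆ F ∪ F₁ ∪ F₂ := by
      intro x hx
      by_contra hne
      apply hx
      have h12 : Indep x.asIdeal (Fin.snoc (Fin.snoc s t₁) t₂ : Fin (h + 1 + 1) → M) :=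
        not_not.1 fun h' => hne (hbad₂ h')
      rw [indep_snoc, indep_snoc] at h12
      obtain ⟨⟨hsx, h1x⟩, h2x⟩ := h12
      refine indep_snoc.2 ⟨hsx, fun hU => h2x ?_⟩
      by_cases hax : a ∈ x.asIdeal
      · have h4 := (U x.asIdeal s).sub_mem hU (Submodule.mem_sup_left (smul_mem_N hax t₂))
        exact absurd (by simpa [t] using h4) h1x
      · obtain ⟨b, e, he, hbe⟩ := x.isMaximal.exists_inv hax
        have hle : U x.asIdeal s ≤ U x.asIdeal (Fin.snoc s t₁ : Fin (h + 1) → M) := by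
          refine sup_le_sup le_rfl (Submodule.span_mono ?_)
          rintro _ ⟨i, rfl⟩
          exact ⟨i.castSucc, Fin.snoc_castSucc ..⟩
        have ht₁' : t₁ ∈ U x.asIdeal (Fin.snoc s t₁ : Fin (h + 1) → M) :=
          Submodule.mem_sup_right (Submodule.subset_span ⟨Fin.last h, Fin.snoc_last ..⟩)
        have ha2 : a • t₂ ∈ U x.asIdeal (Fin.snoc s t₁ : Fin (h + 1) → M) := by
          simpa [t] using Submodule.sub_mem _ (hle hU) ht₁'
        have h3 := Submodule.add_mem _ (Submodule.smul_mem _ b ha2)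
          (Submodule.mem_sup_left (smul_mem_N he t₂) :
            e • t₂ ∈ U x.asIdeal (Fin.snoc s t₁ : Fin (h + 1) → M))
        rwa [smul_smul, ← add_smul, hbe, one_smul] at h3
    obtain ⟨C, hCfin, hCcl, hCirr, hC⟩ := NoetherianSpace.exists_finite_set_isClosed_irreducible
      (isClosed_bad (R := R) (Fin.snoc s t : Fin (h + 1) → M))
    refine ⟨t, ⋃₀ {c ∈ C | ¬ c ⊆ F}, ?_, hP, ?_, ?_⟩
    · rw [Set.sUnion_eq_biUnion]
      exact Set.Finite.isClosed_biUnion (hCfin.subset fun c hc => hc.1) fun c hc => hCcl c hc.1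
    · rw [hC]
      rintro x ⟨c, hc, hxc⟩
      by_cases hcF : c ⊆ F
      · exact Or.inl (hcF hxc)
      · exact Or.inr ⟨c, ⟨hc, hcF⟩, hxc⟩
    intro Z hZ
    obtain ⟨G, ⟨hG₀, hGF⟩, hZG⟩ := exists_component (hCfin.subset fun c hc => hc.1)
      (fun c (hc : c ∈ {c ∈ C | ¬ c ⊆ F}) => hCcl c hc.1) Z.isIrreducible hZ
    have hGsub : G ⊆ Bad (Fin.snoc s t : Fin (h + 1) → M) :=
      fun x hx => hC ▸ ⟨G, hG₀, hx⟩
    let G' : IrreducibleCloseds (MaximalSpectrum R) := ⟨G, hCirr G hG₀, hCcl G hG₀⟩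
    refine le_trans ?_ (Order.coheight_anti (show Z ≤ G' from hZG))
    -- `G'` is strictly inside a component of `F₁` or of `F₂`
    have key : ∀ (c : IrreducibleCloseds (MaximalSpectrum R)), G' ≤ c →
        (∃ p, p ∈ (c : Set (MaximalSpectrum R)) ∧
          Indep p.asIdeal (Fin.snoc s t : Fin (h + 1) → M)) → (k : ℕ∞) ≤ Order.coheight c →
        ((k + 1 : ℕ) : ℕ∞) ≤ Order.coheight G' := by
      rintro c hle ⟨p, hpc, hp⟩ hk
      have hlt : G' < c := lt_of_le_of_ne hle fun h' => hGsub (show p ∈ G by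
        have : p ∈ (G' : Set (MaximalSpectrum R)) := h' ▸ hpc
        exact this) hp
      push_cast
      exact le_trans (add_le_add hk le_rfl) (Order.coheight_add_one_le hlt)
    by_cases h1 : G ⊆ F ∪ F₁
    · have h1' : G ⊆ F₁ := (isPreirreducible_iff_isClosed_union_isClosed.1 (hCirr G hG₀).isPreirreducible F F₁ hF hF₁ h1).resolve_left hGF
      obtain ⟨c, hc, hGc⟩ := exists_component hC₁fin hC₁cl (hCirr G hG₀) (hC₁ ▸ h1')
      have hcF : ¬ c ⊆ F := fun h' => hGF (hGc.trans h')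
      exact key ⟨c, hC₁irr c hc, hC₁cl c hc⟩ hGc
        ⟨y ⟨c, hc, hcF⟩, hyD ⟨c, hc, hcF⟩, hYgood _ (Finset.mem_image_of_mem y (Finset.mem_univ _))⟩
        (hco₁ _ (fun x hx => hC₁ ▸ ⟨c, hc, hx⟩))
    · have h2' : G ⊆ F₂ := (isPreirreducible_iff_isClosed_union_isClosed.1 (hCirr G hG₀).isPreirreducible (F ∪ F₁) F₂
        (hF.union hF₁) hF₂ (hGsub.trans hG)).resolve_left h1
      obtain ⟨c, hc, hGc⟩ := exists_component hC₂fin hC₂cl (hCirr G hG₀) (hC₂ ▸ h2')
      have hcF : ¬ c ⊆ F ∪ F₁ := fun h' => h1 (hGc.trans h')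
      exact key ⟨c, hC₂irr c hc, hC₂cl c hc⟩ hGc
        ⟨z ⟨c, hc, hcF⟩, hzE ⟨c, hc, hcF⟩, hZgood _ (Finset.mem_image_of_mem z (Finset.mem_univ _))⟩
        (hco₂ _ (fun x hx => hC₂ ▸ ⟨c, hc, hx⟩))

end Groth.Agent.SerreSplit
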