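import Mathlib

/-!
The pairing between a module `M` and its dual at a maximal ideal `x`: `V(x) = M/N(x)` with
`N(x) = {m | ∀ φ, φ m ∈ x}`, independence of finitely many elements in `V(x)`.
-/

open scoped Matrix

namespace Groth.Agent.SerreSplit

universe u v

variable {R : Type u} [CommRing R] {M : Type v} [AddCommGroup M] [Module R M]

/-- The elements of `M` all of whose values under linear forms lie in `x`. -/
def N (x : Ideal R) : Submodule R M := ⨅ φ : M →ₗ[R] R, Submodule.comap φ x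

lemma mem_N {x : Ideal R} {m : M} : m ∈ (N x : Submodule R M) ↔ ∀ φ : M →ₗ[R] R, φ m ∈ x := by
  simp [N, Submodule.mem_iInf]

lemma smul_mem_N {x : Ideal R} {a : R} (ha : a ∈ x) (m : M) : a • m ∈ (N x : Submodule R M) := by
  rw [mem_N]; intro φ; rw [map_smul, smul_eq_mul]; exact x.mul_mem_right _ ha

lemma smul_top_le_N (x : Ideal R) : (x • ⊤ : Submodule R M) ≤ N x :=
  Submodule.smul_le.2 fun _ ha m _ => smul_mem_N ha m

/-- Independence of the images of the `s i` in `V(x)`. -/
def Indep (x : Ideal R) {r : ℕ} (s : Fin r → M) : Prop :=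
  ∀ c : Fin r → R, (∑ i, c i • s i) ∈ (N x : Submodule R M) → ∀ i, c i ∈ x

lemma indep_of_det {x : Ideal R} [x.IsPrime] {r : ℕ} {s : Fin r → M} (φ : Fin r → M →ₗ[R] R)
    (h : (Matrix.of fun i j => φ j (s i)).det ∉ x) : Indep x s := by
  intro c hc i
  set A : Matrix (Fin r) (Fin r) R := Matrix.of fun i j => φ j (s i) with hA
  have h1 : ∀ j, (c ᵥ* A) j ∈ x := by
    intro j
    have := mem_N.1 hc (φ j)
    simpa [Matrix.vecMul, dotProduct, hA, map_sum] using this
  have h2 : ((c ᵥ* A) ᵥ* A.adjugate) i ∈ x := by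
    simp only [Matrix.vecMul, dotProduct]
    exact Ideal.sum_mem _ fun j _ => x.mul_mem_right _ (h1 j)
  rw [Matrix.vecMul_vecMul, Matrix.mul_adjugate, Matrix.vecMul_smul, Matrix.vecMul_one] at h2
  exact ((inferInstance : x.IsPrime).mem_or_mem (by simpa using h2)).resolve_left h

lemma Indep.exists_det {x : Ideal R} [x.IsMaximal] {r : ℕ} {s : Fin r → M} (hs : Indep x s) :
    ∃ φ : Fin r → M →ₗ[R] R, (Matrix.of fun i j => φ j (s i)).det ∉ x := by
  classical
  let Φ : (M →ₗ[R] R) →ₗ[R] (Fin r → R ⧸ x) :=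
    LinearMap.pi fun i => (Ideal.Quotient.mkₐ R x).toLinearMap ∘ₗ LinearMap.applyₗ (s i)
  let := Ideal.Quotient.field x
  let W : Submodule (R ⧸ x) (Fin r → R ⧸ x) := Submodule.span (R ⧸ x) (Set.range Φ)
  have hW : W = ⊤ := by
    by_contra hne
    obtain ⟨f, hf0, hf⟩ := W.exists_le_ker_of_lt_top (lt_top_iff_ne_top.2 hne)
    choose c hc using fun i : Fin r => Ideal.Quotient.mk_surjective (f (Pi.single i 1))
    apply hf0
    apply LinearMap.pi_ext'
    intro i
    apply LinearMap.ext_ring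
    have hci : c i ∈ x := by
      refine hs c ?_ i
      rw [mem_N]
      intro φ
      have hφ : f (Φ φ) = 0 := hf (Submodule.subset_span ⟨φ, rfl⟩)
      rw [← Ideal.Quotient.eq_zero_iff_mem, ← hφ,
        pi_eq_sum_univ' (Φ φ), map_sum, map_sum, map_sum]
      refine Finset.sum_congr rfl fun j _ => ?_
      rw [map_smul φ, map_smul f, smul_eq_mul, smul_eq_mul, map_mul, ← hc j]
      simp [Φ, mul_comm]
    simp [← hc i, Ideal.Quotient.eq_zero_iff_mem.2 hci]
  have hsurj : Function.Surjective Φ := by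
    intro y
    have hy : y ∈ W := hW ▸ Submodule.mem_top
    refine Submodule.span_induction (p := fun y _ => ∃ φ, Φ φ = y) ?_ ⟨0, map_zero _⟩ ?_ ?_ hy
    · rintro _ ⟨φ, rfl⟩; exact ⟨φ, rfl⟩
    · rintro _ _ _ _ ⟨φ, rfl⟩ ⟨ψ, rfl⟩; exact ⟨φ + ψ, map_add _ _ _⟩
    · rintro a _ _ ⟨φ, rfl⟩
      obtain ⟨a, rfl⟩ := Ideal.Quotient.mk_surjective a
      exact ⟨a • φ, by rw [map_smul]; rfl⟩
  choose φ hφ using fun j : Fin r => hsurj (Pi.single j 1)
  refine ⟨φ, ?_⟩
  rw [← Ideal.Quotient.eq_zero_iff_mem, RingHom.map_det]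
  have h1 : (Ideal.Quotient.mk x).mapMatrix (Matrix.of fun i j => φ j (s i)) = 1 := by
    ext i j
    have h2 := congrFun (hφ j) i
    simp only [RingHom.mapMatrix_apply, Matrix.map_apply, Matrix.of_apply, Matrix.one_apply]
    simpa [Φ, Pi.single_apply] using h2
  rw [h1, Matrix.det_one]
  exact one_ne_zero

/-- Clearing denominators in a retraction over a localization. -/
lemma exists_det_of_localized [Module.FinitePresentation R M] (S : Submonoid R) (x : Ideal R)
    [x.IsPrime] (hSx : S ≤ x.primeCompl) {A : Type u} [CommRing A] [Algebra R A]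
    [IsLocalization S A] {r : ℕ} (s : Fin r → M) (ψ : Fin r → M →ₗ[R] A) (u : Fin r → S)
    (hψ : ∀ i j, ψ j (s i) = if i = j then algebraMap R A (u i) else 0) :
    ∃ φ : Fin r → M →ₗ[R] R, (Matrix.of fun i j => φ j (s i)).det ∉ x := by
  classical
  choose φ t hφ using fun j : Fin r =>
    Module.FinitePresentation.exists_lift_of_isLocalizedModule S (Algebra.linearMap R A) (ψ j)
  refine ⟨φ, fun hdet => ?_⟩
  have h1 : ∀ i j, algebraMap R A (φ j (s i)) =
      if i = j then algebraMap R A ((t j : R) * u i) else 0 := by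
    intro i j
    have := LinearMap.congr_fun (hφ j) (s i)
    simp only [LinearMap.coe_comp, Function.comp_apply, Algebra.linearMap_apply,
      LinearMap.smul_apply] at this
    rw [this, hψ]
    split_ifs <;> simp [Submonoid.smul_def, Algebra.smul_def]
  have h2 : algebraMap R A (Matrix.of fun i j => φ j (s i)).det =
      algebraMap R A (∏ i, (t i : R) * u i) := by
    rw [RingHom.map_det, map_prod, ← Matrix.det_diagonal]
    congr 1
    ext i j
    simp only [RingHom.mapMatrix_apply, Matrix.map_apply, Matrix.of_apply, h1,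
      Matrix.diagonal_apply]
    split_ifs with h
    · subst h; rfl
    · rfl
  obtain ⟨c, hc⟩ := IsLocalization.exists_of_eq (M := S) h2
  have h3 : (c : R) * ∏ i, (t i : R) * u i ∈ S :=
    S.mul_mem c.2 (S.prod_mem fun i _ => S.mul_mem (t i).2 (u i).2)
  exact hSx h3 (hc ▸ x.mul_mem_left _ hdet)

/-- The submodule of elements whose image in `V(x)` is in the span of the images of the `s i`. -/
def U (x : Ideal R) {r : ℕ} (s : Fin r → M) : Submodule R M :=
  N x ⊔ Submodule.span R (Set.range s)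

lemma mem_U {x : Ideal R} {r : ℕ} {s : Fin r → M} {m : M} :
    m ∈ U x s ↔ ∃ c : Fin r → R, m - ∑ i, c i • s i ∈ (N x : Submodule R M) := by
  rw [U, Submodule.mem_sup]
  constructor
  · rintro ⟨n, hn, y, hy, rfl⟩
    obtain ⟨c, rfl⟩ := (Submodule.mem_span_range_iff_exists_fun R).1 hy
    exact ⟨c, by simpa using hn⟩
  · rintro ⟨c, hc⟩
    exact ⟨_, hc, _, (Submodule.mem_span_range_iff_exists_fun R).2 ⟨c, rfl⟩, by simp⟩

lemma indep_snoc {x : Ideal R} [x.IsMaximal] {r : ℕ} {s : Fin r → M} {t : M} :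
    Indep x (Fin.snoc s t : Fin (r + 1) → M) ↔ Indep x s ∧ t ∉ U x s := by
  constructor
  · intro h
    refine ⟨fun c hc i => ?_, fun ht => ?_⟩
    · have := h (Fin.snoc c 0 : Fin (r + 1) → R) (by simpa [Fin.sum_univ_castSucc] using hc)
        i.castSucc
      simpa using this
    · obtain ⟨c, hc⟩ := mem_U.1 ht
      have := h (Fin.snoc (-c) 1 : Fin (r + 1) → R)
        (by simpa [Fin.sum_univ_castSucc, neg_add_eq_sub] using hc) (Fin.last r)
      exact (inferInstance : x.IsMaximal).ne_top ((Ideal.eq_top_iff_one _).2 (by simpa using this))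
  · rintro ⟨hs, ht⟩ c hc
    rw [Fin.sum_univ_castSucc] at hc
    simp only [Fin.snoc_castSucc, Fin.snoc_last] at hc
    have hlast : c (Fin.last r) ∈ x := by
      by_contra hb
      obtain ⟨b', e, he, hbe⟩ := (inferInstance : x.IsMaximal).exists_inv hb
      refine ht (mem_U.2 ⟨fun i => -(b' * c i.castSucc), ?_⟩)
      have h1 := (N x).add_mem ((N x).smul_mem b' hc) (smul_mem_N he t)
      convert h1 using 1
      simp only [neg_smul, Finset.sum_neg_distrib, sub_neg_eq_add, smul_add, Finset.smul_sum,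
        smul_smul]
      rw [add_assoc, ← add_smul, hbe, one_smul, add_comm]
    have h2 : (∑ i : Fin r, c i.castSucc • s i) ∈ (N x : Submodule R M) := by
      simpa using (N x).sub_mem hc (smul_mem_N hlast t)
    intro i
    induction i using Fin.lastCases with
    | last => exact hlast
    | cast i => exact hs _ h2 i

lemma indep_snoc_congr {x : Ideal R} [x.IsMaximal] {r : ℕ} {s : Fin r → M} {t t' : M}
    (h : t - t' ∈ (N x : Submodule R M)) :
    Indep x (Fin.snoc s t : Fin (r + 1) → M) ↔ Indep x (Fin.snoc s t' : Fin (r + 1) → M) := by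
  rw [indep_snoc, indep_snoc, (U x s).sub_mem_iff_left (x := t') (y := t' - t) ?_ |>.symm.trans ?_]
  · have : t - t' ∈ U x s := Submodule.mem_sup_left h
    simpa using (U x s).neg_mem this
  · simp

lemma Indep.U_ne_top {x : Ideal R} [x.IsMaximal] {r m : ℕ} {e : Fin r → M} (he : Indep x e)
    (s : Fin m → M) (hm : m < r) : U x s ≠ ⊤ := by
  classical
  intro htop
  choose C hC using fun i => mem_U.1 (htop ▸ Submodule.mem_top : e i ∈ U x s)
  let := Ideal.Quotient.field x
  let L : (Fin r → R ⧸ x) →ₗ[R ⧸ x] (Fin m → R ⧸ x) :=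
    Fintype.linearCombination (R ⧸ x) (fun i j => Ideal.Quotient.mk x (C i j))
  have hL : ¬ Function.Injective L := fun h => by
    have := LinearMap.finrank_le_finrank_of_injective h
    simp at this; omega
  rw [← LinearMap.ker_eq_bot] at hL
  obtain ⟨d, hd, hd0⟩ := (Submodule.ne_bot_iff _).1 hL
  choose c hc using fun i => Ideal.Quotient.mk_surjective (d i)
  apply hd0
  funext i
  rw [← hc i, Pi.zero_apply, Ideal.Quotient.eq_zero_iff_mem]
  refine he c ?_ i
  have h1 : ∀ j, (∑ i, c i * C i j) ∈ x := by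
    intro j
    rw [← Ideal.Quotient.eq_zero_iff_mem, map_sum]
    have := congrFun (LinearMap.mem_ker.1 hd) j
    simpa [L, Fintype.linearCombination_apply, hc, smul_eq_mul] using this
  have h2 : (∑ i, c i • (e i - ∑ j, C i j • s j)) ∈ (N x : Submodule R M) :=
    Submodule.sum_mem _ fun i _ => (N x).smul_mem _ (hC i)
  have h3 : (∑ j, (∑ i, c i * C i j) • s j) ∈ (N x : Submodule R M) :=
    Submodule.sum_mem _ fun j _ => smul_mem_N (h1 j) _
  convert (N x).add_mem h2 h3 using 1
  simp only [smul_sub, Finset.sum_sub_distrib, Finset.smul_sum, smul_smul, Finset.sum_smul]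
  rw [Finset.sum_comm (f := fun j i => (c i * C i j) • s j), sub_add_cancel]

/-- `V(x)` as in the statements, with its zero elements. -/
lemma mkQ_mkQ_eq_zero_iff (x : Ideal R) (m : M) :
    (Submodule.span (R ⧸ x)
      ((x • ⊤ : Submodule R M).mkQ '' {m : M | ∀ φ : M →ₗ[R] R, φ m ∈ x})).mkQ
        ((x • ⊤ : Submodule R M).mkQ m) = 0 ↔ m ∈ (N x : Submodule R M) := by
  rw [Submodule.mkQ_apply, Submodule.Quotient.mk_eq_zero]
  refine ⟨fun h => ?_, fun h => Submodule.subset_span ⟨m, mem_N.1 h, rfl⟩⟩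
  have key : ∀ y ∈ Submodule.span (R ⧸ x)
      ((x • ⊤ : Submodule R M).mkQ '' {m : M | ∀ φ : M →ₗ[R] R, φ m ∈ x}),
      ∀ m : M, (x • ⊤ : Submodule R M).mkQ m = y → m ∈ (N x : Submodule R M) := by
    intro y hy
    induction hy using Submodule.span_induction with
    | mem y hy =>
      obtain ⟨m', hm', rfl⟩ := hy
      intro m hm
      rw [Submodule.mkQ_apply, Submodule.mkQ_apply, Submodule.Quotient.eq] at hm
      simpa using (N x).add_mem (smul_top_le_N x hm) (mem_N.2 hm')
    | zero =>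
      intro m hm
      exact smul_top_le_N x ((Submodule.Quotient.mk_eq_zero _).1 hm)
    | add y z _ _ ihy ihz =>
      intro m hm
      obtain ⟨m₁, rfl⟩ := Submodule.mkQ_surjective _ y
      obtain ⟨m₂, rfl⟩ := Submodule.mkQ_surjective _ z
      rw [← map_add, Submodule.mkQ_apply, Submodule.mkQ_apply, Submodule.Quotient.eq] at hm
      simpa using (N x).add_mem (smul_top_le_N x hm) ((N x).add_mem (ihy _ rfl) (ihz _ rfl))
    | smul a y _ ihy =>
      intro m hm
      obtain ⟨a, rfl⟩ := Ideal.Quotient.mk_surjective a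
      obtain ⟨m₁, rfl⟩ := Submodule.mkQ_surjective _ y
      have e : Ideal.Quotient.mk x a • (x • ⊤ : Submodule R M).mkQ m₁ =
          (x • ⊤ : Submodule R M).mkQ (a • m₁) := rfl
      rw [e, Submodule.mkQ_apply, Submodule.mkQ_apply, Submodule.Quotient.eq] at hm
      simpa using (N x).add_mem (smul_top_le_N x hm) ((N x).smul_mem a (ihy _ rfl))
  exact key _ h m rfl

lemma mkQ_mkQ_eq_iff (x : Ideal R) (m m' : M) :
    (Submodule.span (R ⧸ x)
      ((x • ⊤ : Submodule R M).mkQ '' {m : M | ∀ φ : M →ₗ[R] R, φ m ∈ x})).mkQ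
        ((x • ⊤ : Submodule R M).mkQ m) =
    (Submodule.span (R ⧸ x)
      ((x • ⊤ : Submodule R M).mkQ '' {m : M | ∀ φ : M →ₗ[R] R, φ m ∈ x})).mkQ
        ((x • ⊤ : Submodule R M).mkQ m') ↔ m - m' ∈ (N x : Submodule R M) := by
  rw [← mkQ_mkQ_eq_zero_iff, map_sub, map_sub, sub_eq_zero]

lemma linearIndependent_iff_indep (x : Ideal R) {r : ℕ} (s : Fin r → M) :
    LinearIndependent (R ⧸ x) (fun i => (Submodule.span (R ⧸ x)
      ((x • ⊤ : Submodule R M).mkQ '' {m : M | ∀ φ : M →ₗ[R] R, φ m ∈ x})).mkQ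
        ((x • ⊤ : Submodule R M).mkQ (s i))) ↔ Indep x s := by
  rw [Fintype.linearIndependent_iff]
  have e : ∀ c : Fin r → R, ∑ i, Ideal.Quotient.mk x (c i) • (Submodule.span (R ⧸ x)
      ((x • ⊤ : Submodule R M).mkQ '' {m : M | ∀ φ : M →ₗ[R] R, φ m ∈ x})).mkQ
        ((x • ⊤ : Submodule R M).mkQ (s i)) = (Submodule.span (R ⧸ x)
      ((x • ⊤ : Submodule R M).mkQ '' {m : M | ∀ φ : M →ₗ[R] R, φ m ∈ x})).mkQ
        ((x • ⊤ : Submodule R M).mkQ (∑ i, c i • s i)) := by
    intro c
    simp only [map_sum]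
    rfl
  constructor
  · intro h c hc i
    rw [← Ideal.Quotient.eq_zero_iff_mem]
    exact h (fun i => Ideal.Quotient.mk x (c i))
      (by rw [e, mkQ_mkQ_eq_zero_iff]; exact hc) i
  · intro h g hg i
    choose c hc using fun i => Ideal.Quotient.mk_surjective (g i)
    obtain rfl : g = fun i => Ideal.Quotient.mk x (c i) := funext fun i => (hc i).symm
    rw [Ideal.Quotient.eq_zero_iff_mem]
    rw [e, mkQ_mkQ_eq_zero_iff] at hg
    exact h c hg i

end Groth.Agent.SerreSplit
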